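/-
Three classes of subgroups of type F4(2) in the twisted group of type E6 over the field of four elements.
-/
import Cfsg.Agent.Lib.Chev.Fold.Main
import Cfsg.Agent.Lib.Chev.TwE6Thm
import Cfsg.Agent.Lib.Chev.Aut.Diag
import Cfsg.Agent.Lib.Chev.Normal

set_option autoImplicit false
set_option maxHeartbeats 1000000

namespace Cfsg.Agent.Chev.FoldTwist

open Cfsg.Lie Cfsg.Agent.Chev

section General

variable {D : ChevalleyDatum} {P : Pk} {F : Type*} [Field F] (h : Ok D P)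
include h

/-- An element carrying, for every simple root, an element with non-zero coordinate there into `U` is in `B`. -/
theorem mem_borel_of_conj (hC : P.ckComm = true) {g : GL D.Idx F} (hg : g ∈ D.group F)
    (hconj : ∀ i < P.rank, ∃ t : F, t ≠ 0 ∧ ∃ a ∈ h.genR (F := F) (Ok.Out P (· = i)),
      g * (h.xG (P.sim i) t * a) * g⁻¹ ∈ D.posUnipotent F) :
    g ∈ D.borelSubgroup F := by
  obtain ⟨b, hb, l, hl, u, hu, rfl⟩ := h.bruhat_exists hC hg
  have huU := h.negS_le_pos l hu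
  have hpos : ∀ i < P.rank, P.isPos (wl P l (P.sim i)) = true := by
    intro i hi
    by_contra hneg
    obtain ⟨t, ht0, a₁, ha₁, hc⟩ := hconj i hi
    obtain ⟨hN, hsup⟩ := h.fundamental_split (F := F) hC hi
    have ha₁U : a₁ ∈ D.posUnipotent F := hsup ▸ Subgroup.mem_sup_left ha₁
    have hy : u * (h.xG (P.sim i) t * a₁) * u⁻¹ ∈ D.posUnipotent F :=
      mul_mem (mul_mem huU (mul_mem (h.xG_mem_pos (h.sim_pos hi) t) ha₁U)) (inv_mem huU)
    obtain ⟨v, hv, d, hd, rfl⟩ := h.mem_borel hb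
    have h1 : h.nW l * (u * (h.xG (P.sim i) t * a₁) * u⁻¹) * (h.nW l)⁻¹ ∈ D.posUnipotent F := by
      have h4 := mul_mem (mul_mem (inv_mem hv) hc) hv
      have h5 := (Subgroup.mem_normalizer_iff.1 (h.diagonal_normalizes (inv_mem hd)) _).1 h4
      convert h5 using 1
      group
    have h2 : u * (h.xG (P.sim i) t * a₁) * u⁻¹ ∈ h.genR (Ok.Out P (· = i)) := by
      refine h.genR_mono (fun r hr => ?_) (h.pos_part_of_conj hC hl hy h1)
      exact (h.out_sim hi).2 ⟨hr.1, fun e => hneg (e ▸ hr.2)⟩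
    have huU' := huU
    rw [← hsup, sup_comm, ← SetLike.mem_coe,
      Subgroup.coe_mul_of_left_le_normalizer_right _ _ (le_trans le_sup_left hN)] at huU'
    obtain ⟨x, hx, a, ha, rfl⟩ := huU'
    rw [h.rootSubgroup_eq] at hx
    obtain ⟨c, rfl⟩ := hx
    have hxN : h.xG (P.sim i) c ∈ Subgroup.normalizer (h.genR (F := F) (Ok.Out P (· = i)) : Set (GL D.Idx F)) :=
      hN (Subgroup.mem_sup_left (h.mem_rootSubgroup c))
    have h6 : a * (h.xG (P.sim i) t * a₁) * a⁻¹ ∈ h.genR (Ok.Out P (· = i)) := by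
      refine (Subgroup.mem_normalizer_iff.1 hxN _).2 ?_
      convert h2 using 1
      group
    refine ht0 (h.sim_not_out hC hi ?_)
    have h8 := mul_mem (mul_mem (mul_mem (inv_mem ha) h6) ha) (inv_mem ha₁)
    convert h8 using 1
    group
  have hid := fun r hr => h.wl_eq_id l.length l le_rfl hl hpos r hr
  exact mul_mem (mul_mem hb (Subgroup.mem_sup_right (h.nW_mem_diagonal hl hid))) (Subgroup.mem_sup_left huU)

end General

section Concrete

variable (K : Type*) [Field K]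

/-- The folded root element with parameter one. -/
noncomputable def yK (r : ℕ) : GL chevE6.Idx K := Fold.yF r (1 : K)

/-- The copy of F4(2). -/
noncomputable def H : Subgroup (GL chevE6.Idx K) := Subgroup.closure {g | ∃ r < F4.pk.nroots, g = yK K r}

/-- Its Sylow 2-subgroup. -/
noncomputable def UH : Subgroup (GL chevE6.Idx K) := Subgroup.closure {g | ∃ r, F4.pk.isPos r = true ∧ g = yK K r}

variable {K}

theorem img_lt : (F4.pk.allRoots.all fun r => (Fold.img r).all fun a => Nat.blt a E6.pk.nroots) = true := by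
  decide +kernel

theorem img_pos : (F4.pk.allRoots.all fun r => !(F4.pk.isPos r) || (Fold.img r).all fun a => E6.pk.isPos a) = true := by
  decide +kernel

theorem img_lev : (F4.pk.allRoots.all fun r =>
    match Fold.img r with
    | [a] => decide (E6.pk.rv a 0 = E6.pk.rv a 5)
    | [a, b] => decide (E6.pk.rv a 0 = E6.pk.rv b 5 ∧ E6.pk.rv a 5 = E6.pk.rv b 0)
    | _ => false) = true := by
  decide +kernel

/-- The F4-root above which a simple root of E6 lies. -/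
theorem exists_simple : ∀ k : Fin 6, ∃ r : Fin 48, F4.pk.isPos (r : ℕ) = true ∧
    (Fold.img r = [E6.pk.sim k] ∨ ∃ b : Fin 72, (b : ℕ) ≠ E6.pk.sim k ∧ E6.pk.isPos (b : ℕ) = true ∧
      (Fold.img r = [E6.pk.sim k, (b : ℕ)] ∨ Fold.img r = [(b : ℕ), E6.pk.sim k])) := by
  decide +kernel

theorem pairs_commute {r a b : ℕ} (hr : r < F4.pk.nroots) (e : Fold.img r = [a, b]) (s t : K) :
    E6.ok.xG a s * E6.ok.xG b t = E6.ok.xG b t * E6.ok.xG a s := by
  rcases Fold.img_cases hr with ⟨a', e', -, -⟩ | ⟨a', b', e', -, -, ho⟩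
  · rw [e] at e'; simp at e'
  · rw [e] at e'
    simp only [List.cons.injEq, and_true] at e'
    obtain ⟨rfl, rfl⟩ := e'
    exact (E6.ok.commute_xG ckComm_E6 ho s t).eq

theorem gmap_yF {E : Type*} [Field E] (ι : E →+* K) {r : ℕ} (hr : r < F4.pk.nroots) (t : E) :
    gmap chevE6 ι (Fold.yF r t) = Fold.yF r (ι t) := by
  rw [Fold.yF, Fold.yF, map_list_prod, List.map_map]
  refine congrArg List.prod (List.map_congr_left fun a ha => ?_)
  have ha' := List.all_eq_true.1 (List.all_eq_true.1 img_lt r (F4.pk.mem_allRoots.2 hr)) a ha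
  exact E6.ok.gmap_xG ι (Nat.blt_eq.mp ha') t

variable [Fintype K] [CharP K 2]

/-- The embedding of F4(2). -/
theorem exists_emb : ∃ χ : ↥(chevF4.group (ZMod 2)) →* GL chevE6.Idx K, Function.Injective χ ∧ χ.range = H K ∧
    ∃ S : Sylow 2 ↥(chevF4.group (ZMod 2)), (S : Subgroup ↥(chevF4.group (ZMod 2))).map χ = UH K := by
  classical
  have h : CT.Full chevF4 F4.pk := ⟨F4.ok, ckComm_F4, CT.UpF4.up_ok, CT.UpF4.eta_sim⟩
  obtain ⟨θ, hθ, hker, hgen⟩ := CT.exists_cover_proj (K := ZMod 2) h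
  obtain ⟨e, -⟩ := CT.exists_sc_iso (K := ZMod 2) h
  have hcen : Subgroup.center (chevF4.SteinbergCover (ZMod 2)) = ⊥ := by
    have := CT.center_eq_bot (K := ZMod 2) h Cfsg.Agent.S1078.f4_d F4.cinv Cfsg.Agent.S1078.f4_inv
    refine (Subgroup.eq_bot_iff_forall _).2 fun z hz => ?_
    have hz' : e z ∈ Subgroup.center (chevF4.SteinbergGroup (ZMod 2)) := by
      rw [Subgroup.mem_center_iff] at hz ⊢
      intro g
      obtain ⟨g, rfl⟩ := e.surjective g
      rw [← map_mul, hz g, map_mul]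
    rw [this, Subgroup.mem_bot] at hz'
    exact e.map_eq_one_iff.1 hz'
  let Θ : chevF4.SteinbergCover (ZMod 2) ≃* ↥(chevF4.group (ZMod 2)) := MulEquiv.ofBijective θ
    ⟨(MonoidHom.ker_eq_bot_iff θ).1 (le_bot_iff.1 (hker.trans_eq hcen)), hθ⟩
  haveI : IsSimpleGroup ↥(chevF4.group (ZMod 2)) :=
    (F4.ok.simple ckComm_F4 ckConn_F4 (F4.ok.perfect_all ckComm_F4 ckPerf_F4)).1
  obtain ⟨ψ, hψ⟩ := CT.exists_hom_of_rel (K := ZMod 2) h (Fold.rel_yF (F := ZMod 2))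
  let ι : ZMod 2 →+* K := ZMod.castHom dvd_rfl K
  set χ : ↥(chevF4.group (ZMod 2)) →* GL chevE6.Idx K := (gmap chevE6 ι).comp (ψ.comp Θ.symm.toMonoidHom) with hχ
  have hval : ∀ (r : ℕ) (hr : r < F4.pk.nroots) (t : ZMod 2),
      χ ⟨F4.ok.xG r t, F4.ok.mem_group_of_xG r t⟩ = Fold.yF r (ι t) := by
    intro r hr t
    have e1 : Θ (chevF4.scGen (ZMod 2) r t) = ⟨F4.ok.xG r t, F4.ok.mem_group_of_xG r t⟩ := by
      refine Subtype.ext (Units.ext ?_)
      show ((θ (chevF4.scGen (ZMod 2) r t) : GL chevF4.Idx (ZMod 2)) : Matrix chevF4.Idx chevF4.Idx (ZMod 2)) = _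
      rw [hgen r t (F4.ok.nroots ▸ hr), F4.ok.coe_xG]
    rw [← e1, hχ]
    simp only [MonoidHom.comp_apply, MulEquiv.coe_toMonoidHom, MulEquiv.symm_apply_apply]
    rw [hψ r hr t, gmap_yF ι hr t]
  have hone : ∀ t : ZMod 2, ι t = 0 ∨ ι t = 1 := fun t => by
    rcases (by decide : ∀ t : ZMod 2, t = 0 ∨ t = 1) t with rfl | rfl
    · exact Or.inl (map_zero ι)
    · exact Or.inr (map_one ι)
  have hy : ∀ (r : ℕ) (hr : r < F4.pk.nroots) (t : ZMod 2) (S : Subgroup (GL chevE6.Idx K)),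
      yK K r ∈ S → χ ⟨F4.ok.xG r t, F4.ok.mem_group_of_xG r t⟩ ∈ S := by
    intro r hr t S hS
    rw [hval r hr t]
    rcases hone t with e | e <;> rw [e]
    · rw [Fold.yF_zero hr]; exact one_mem _
    · exact hS
  have hy' : ∀ (r : ℕ) (hr : r < F4.pk.nroots), χ ⟨F4.ok.xG r 1, F4.ok.mem_group_of_xG r 1⟩ = yK K r := by
    intro r hr; rw [hval r hr, map_one]; rfl
  have hrange : χ.range = H K := by
    refine le_antisymm ?_ ((Subgroup.closure_le _).2 fun g ⟨r, hr, e⟩ => e ▸ hy' r hr ▸ MonoidHom.mem_range.2 ⟨_, rfl⟩)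
    rintro _ ⟨⟨x, hx⟩, rfl⟩
    have hle : chevF4.group (ZMod 2) ≤ ((H K).comap χ).map (chevF4.group (ZMod 2)).subtype :=
      F4.ok.group_le fun r hr t => Subgroup.mem_map.2 ⟨⟨F4.ok.xG r t, F4.ok.mem_group_of_xG r t⟩,
        hy r hr t (H K) (Subgroup.subset_closure ⟨r, hr, rfl⟩), rfl⟩
    obtain ⟨z, hz, ez⟩ := hle hx
    obtain rfl : z = ⟨x, hx⟩ := Subtype.ext ez
    exact hz
  have hinj : Function.Injective χ := by
    rw [← MonoidHom.ker_eq_bot_iff]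
    refine (χ.normal_ker.eq_bot_or_eq_top).resolve_right fun htop => ?_
    have h1 : χ ⟨F4.ok.xG 24 1, F4.ok.mem_group_of_xG 24 1⟩ = 1 :=
      MonoidHom.mem_ker.1 (htop ▸ Subgroup.mem_top _)
    rw [hy' 24 (by decide), yK, Fold.yF, show Fold.img 24 = [46] from by decide] at h1
    simp only [List.map_cons, List.map_nil, List.prod_cons, List.prod_nil, mul_one] at h1
    exact one_ne_zero (α := K) (E6.ok.xG_inj_param (by decide) (h1.trans (E6.ok.xG_zero (F := K) 46).symm))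
  obtain ⟨S, hS⟩ := F4.ok.pos_sylow (F := ZMod 2) 2 ckComm_F4
  refine ⟨χ, hinj, hrange, S, le_antisymm ?_ ?_⟩
  · rw [hS]
    rintro _ ⟨⟨x, hx⟩, hxU, rfl⟩
    have hle : chevF4.posUnipotent (ZMod 2) ≤ ((UH K).comap χ).map (chevF4.group (ZMod 2)).subtype :=
      F4.ok.posUnipotent_le fun r hr t => Subgroup.mem_map.2 ⟨⟨F4.ok.xG r t, F4.ok.mem_group_of_xG r t⟩,
        hy r (F4.pk.isPos_iff.1 hr).2 t (UH K) (Subgroup.subset_closure ⟨r, hr, rfl⟩), rfl⟩
    obtain ⟨z, hz, ez⟩ := hle (Subgroup.mem_subgroupOf.1 hxU)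
    obtain rfl : z = ⟨x, hx⟩ := Subtype.ext ez
    exact hz
  · refine (Subgroup.closure_le _).2 fun g ⟨r, hr, e⟩ => ?_
    refine ⟨⟨F4.ok.xG r 1, F4.ok.mem_group_of_xG r 1⟩, ?_, (hy' r (F4.pk.isPos_iff.1 hr).2).trans e.symm⟩
    rw [hS]
    exact Subgroup.mem_subgroupOf.2 (F4.ok.xG_mem_pos hr 1)

omit [Fintype K] [CharP K 2] in
theorem yK_mem_group {r : ℕ} (hr : r < F4.pk.nroots) : yK K r ∈ chevE6.group K := by
  rw [yK, Fold.yF]
  refine list_prod_mem fun g hg => ?_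
  obtain ⟨a, -, rfl⟩ := List.mem_map.1 hg
  exact E6.ok.mem_group_of_xG _ _

omit [Fintype K] [CharP K 2] in
theorem UH_le_pos : UH K ≤ chevE6.posUnipotent K := by
  refine (Subgroup.closure_le _).2 fun g ⟨r, hr, e⟩ => e ▸ list_prod_mem fun x hx => ?_
  obtain ⟨a, ha, rfl⟩ := List.mem_map.1 hx
  have h1 := List.all_eq_true.1 img_pos r (F4.pk.mem_allRoots.2 (F4.pk.isPos_iff.1 hr).2)
  simp only [hr, Bool.not_true, Bool.false_or] at h1
  exact E6.ok.xG_mem_pos (List.all_eq_true.1 h1 a ha) _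

omit [Fintype K] [CharP K 2] in
theorem simple_form {k : ℕ} (hk : k < E6.pk.rank) :
    ∃ r, F4.pk.isPos r = true ∧ ∃ a ∈ E6.ok.genR (F := K) (Ok.Out E6.pk (· = k)),
      yK K r = E6.ok.xG (E6.pk.sim k) (1 : K) * a := by
  obtain ⟨r, hr, hcase⟩ := exists_simple ⟨k, hk⟩
  have hr' := (F4.pk.isPos_iff.1 hr).2
  refine ⟨r, hr, ?_⟩
  rcases hcase with e | ⟨b, hb, hbp, e | e⟩
  · exact ⟨1, one_mem _, by rw [yK, Fold.yF, e]; simp⟩
  · exact ⟨E6.ok.xG b 1, E6.ok.xG_mem_genR ((E6.ok.out_sim hk).2 ⟨hbp, hb⟩) _,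
      by rw [yK, Fold.yF, e]; simp⟩
  · refine ⟨E6.ok.xG b 1, E6.ok.xG_mem_genR ((E6.ok.out_sim hk).2 ⟨hbp, hb⟩) _, ?_⟩
    rw [yK, Fold.yF, e]
    simp only [List.map_cons, List.map_nil, List.prod_cons, List.prod_nil, mul_one]
    exact pairs_commute hr' e 1 1

omit [Fintype K] in
/-- The coordinates of the Sylow subgroup at simple roots are in the prime field. -/
theorem coord_one {k : ℕ} (hk : k < E6.pk.rank) {u : GL chevE6.Idx K} (hu : u ∈ UH K) :
    ∃ s : K, (s = 0 ∨ s = 1) ∧ ∃ a ∈ E6.ok.genR (F := K) (Ok.Out E6.pk (· = k)),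
      u = E6.ok.xG (E6.pk.sim k) s * a := by
  obtain ⟨hN, -⟩ := E6.ok.fundamental_split (F := K) ckComm_E6 hk
  set N := E6.ok.genR (F := K) (Ok.Out E6.pk (· = k))
  set Z := Subgroup.zpowers (E6.ok.xG (E6.pk.sim k) (1 : K))
  have hZ : Z ≤ Subgroup.normalizer (N : Set (GL chevE6.Idx K)) :=
    Subgroup.zpowers_le.2 (hN (Subgroup.mem_sup_left (E6.ok.mem_rootSubgroup 1)))
  have hle : UH K ≤ Z ⊔ N := by
    refine (Subgroup.closure_le _).2 fun g ⟨r, hr, e⟩ => e ▸ list_prod_mem fun x hx => ?_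
    obtain ⟨a, ha, rfl⟩ := List.mem_map.1 hx
    have h1 := List.all_eq_true.1 img_pos r (F4.pk.mem_allRoots.2 (F4.pk.isPos_iff.1 hr).2)
    simp only [hr, Bool.not_true, Bool.false_or] at h1
    by_cases hak : a = E6.pk.sim k
    · exact hak ▸ Subgroup.mem_sup_left (Subgroup.mem_zpowers _)
    · exact Subgroup.mem_sup_right (E6.ok.xG_mem_genR ((E6.ok.out_sim hk).2 ⟨List.all_eq_true.1 h1 a ha, hak⟩) _)
  have hu' := hle hu
  rw [← SetLike.mem_coe, Subgroup.coe_mul_of_left_le_normalizer_right _ _ hZ] at hu'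
  obtain ⟨x, hx, a, ha, rfl⟩ := hu'
  obtain ⟨n, rfl⟩ := Subgroup.mem_zpowers_iff.1 hx
  have hsq : E6.ok.xG (E6.pk.sim k) (1 : K) ^ (2 : ℤ) = 1 := by
    rw [zpow_two, E6.ok.xG_add, CharTwo.add_self_eq_zero, E6.ok.xG_zero]
  rcases Int.even_or_odd' n with ⟨j, rfl | rfl⟩
  · exact ⟨0, Or.inl rfl, a, ha, by rw [zpow_mul, hsq, one_zpow, E6.ok.xG_zero]⟩
  · exact ⟨1, Or.inr rfl, a, ha, by rw [zpow_add, zpow_mul, hsq, one_zpow, one_mul, zpow_one]⟩

/-- The twisting vector. -/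
def cvec (w : Kˣ) : Fin E6.pk.rank → Kˣ := fun i => if (i : ℕ) = 0 then w else if (i : ℕ) = 5 then w⁻¹ else 1

omit [Fintype K] [CharP K 2] in
theorem rchar_cvec (w : Kˣ) (r : ℕ) : Aut.rchar E6.pk (cvec w) r = w ^ (E6.pk.rv r 0 - E6.pk.rv r 5) := by
  show ∏ k : Fin 6, cvec w k ^ E6.pk.rv r k = _
  simp [Fin.prod_univ_six, cvec, zpow_sub, inv_zpow]

theorem cart_weight : ∀ i : Fin 6,
    (E6.pk.A i (E6.pk.sim 0) - E6.pk.A i (E6.pk.sim 2) + E6.pk.A i (E6.pk.sim 4) - E6.pk.A i (E6.pk.sim 5)) % 3 = 0 := by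
  decide +kernel

omit [CharP K 2] in
theorem eq_one_of_char (hK : Fintype.card K = 4) {w : Kˣ} {c : Fin E6.pk.rank → Kˣ}
    (e : ∀ k < E6.pk.rank, ((Aut.rchar E6.pk (cvec w) (E6.pk.sim k) : Kˣ) : K) * hchar E6.pk c (E6.pk.sim k) = 1) :
    w = 1 := by
  classical
  have h3 : ∀ x : Kˣ, x ^ (3 : ℤ) = 1 := fun x => by
    have : x ^ Fintype.card Kˣ = 1 := pow_card_eq_one
    rw [Fintype.card_units, hK] at this
    exact_mod_cast this
  have hsc : ∀ k, hchar E6.pk c (E6.pk.sim k) = ((∏ i : Fin E6.pk.rank, c i ^ E6.pk.A i (E6.pk.sim k) : Kˣ) : K) :=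
    fun k => by
      simp [hchar]
  have hq : ∀ k : Fin 6, cvec w k * ∏ i : Fin E6.pk.rank, c i ^ E6.pk.A i (E6.pk.sim k) = 1 := fun k => by
    have := e k k.isLt
    rw [hsc, ← Units.val_mul, ← Units.val_one] at this
    have h := Units.ext this
    rwa [Aut.rchar_sim E6.ok (cvec w) k] at h
  have hp : (∏ i : Fin E6.pk.rank, c i ^ E6.pk.A i (E6.pk.sim 0)) * (∏ i : Fin E6.pk.rank, c i ^ E6.pk.A i (E6.pk.sim 2))⁻¹ *
      (∏ i : Fin E6.pk.rank, c i ^ E6.pk.A i (E6.pk.sim 4)) * (∏ i : Fin E6.pk.rank, c i ^ E6.pk.A i (E6.pk.sim 5))⁻¹ = 1 := by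
    rw [← Finset.prod_inv_distrib, ← Finset.prod_inv_distrib, ← Finset.prod_mul_distrib, ← Finset.prod_mul_distrib,
      ← Finset.prod_mul_distrib]
    refine Finset.prod_eq_one fun i _ => ?_
    rw [← zpow_neg, ← zpow_neg, ← zpow_add, ← zpow_add, ← zpow_add]
    obtain ⟨m, hm⟩ := Int.dvd_of_emod_eq_zero (cart_weight i)
    rw [← sub_eq_add_neg, ← sub_eq_add_neg, hm, zpow_mul, h3, one_zpow]
  have h0 := eq_inv_of_mul_eq_one_right (hq 0)
  have h2 := eq_inv_of_mul_eq_one_right (hq 2)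
  have h4 := eq_inv_of_mul_eq_one_right (hq 4)
  have h5 := eq_inv_of_mul_eq_one_right (hq 5)
  simp only [show ((0 : Fin 6) : ℕ) = 0 from rfl, show ((2 : Fin 6) : ℕ) = 2 from rfl,
    show ((4 : Fin 6) : ℕ) = 4 from rfl, show ((5 : Fin 6) : ℕ) = 5 from rfl] at h0 h2 h4 h5
  rw [h0, h2, h4, h5] at hp
  simp [cvec] at hp
  have h2' : w ^ (2 : ℤ) = 1 := by
    rw [zpow_two]
    simpa [mul_inv_rev] using congrArg Inv.inv hp
  have := h3 w
  rw [show (3 : ℤ) = 2 + 1 from rfl, zpow_add, h2', one_mul, zpow_one] at this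
  exact this

/-- A twisted element normalising the copy of F4(2) is untwisted. -/
theorem twist_trivial (hK : Fintype.card K = 4) {w : Kˣ} {g : GL chevE6.Idx K} (hg : g ∈ chevE6.group K)
    (hn : (H K).map (MulAut.conj (Aut.dR E6.ok (cvec w) * g)).toMonoidHom = H K) : w = 1 := by
  classical
  obtain ⟨χ, hinj, hrange, S, hS⟩ := exists_emb (K := K)
  set dd := Aut.dR E6.ok (cvec (K := K) w) with hdd
  set x := dd * g with hx
  have hUH : UH K ≤ H K := Subgroup.closure_mono fun g ⟨r, hr, e⟩ => ⟨r, (F4.pk.isPos_iff.1 hr).2, e⟩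
  have hH : H K ≤ chevE6.group K := (Subgroup.closure_le _).2 fun g ⟨r, hr, e⟩ => e ▸ yK_mem_group hr
  set Q := (UH K).map (MulAut.conj x).toMonoidHom
  have hQH : Q ≤ χ.range := by
    rw [hrange, ← hn]; exact Subgroup.map_mono hUH
  have hQp : IsPGroup 2 Q := by
    refine IsPGroup.map ?_ _
    rw [← hS]; exact S.isPGroup'.map χ
  have hQp' : IsPGroup 2 (Q.comap χ) := IsPGroup.comap_of_injective hQp χ hinj
  obtain ⟨S', hS'⟩ := hQp'.exists_le_sylow
  obtain ⟨z, hz⟩ := MulAction.exists_smul_eq ↥(chevF4.group (ZMod 2)) S' S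
  have hzH : χ z ∈ H K := hrange ▸ ⟨z, rfl⟩
  have hmove : ∀ u ∈ UH K, χ z * (x * u * x⁻¹) * (χ z)⁻¹ ∈ UH K := by
    intro u hu
    have h1 : x * u * x⁻¹ ∈ Q := ⟨u, hu, rfl⟩
    obtain ⟨v, hv⟩ := hQH h1
    rw [← hv, ← map_inv, ← map_mul, ← map_mul, ← hS]
    refine ⟨z * v * z⁻¹, ?_, rfl⟩
    have h2 : z * v * z⁻¹ ∈ ((z • S' : Sylow 2 _) : Subgroup ↥(chevF4.group (ZMod 2))) :=
      ⟨v, hS' (show χ v ∈ Q from hv ▸ h1), rfl⟩
    rwa [hz] at h2
  set g' := dd⁻¹ * χ z * dd * g with hg'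
  have hg'G : g' ∈ chevE6.group K := by
    refine mul_mem ?_ hg
    have := Aut.dR_group E6.ok (cvec (K := K) w)⁻¹ (hH hzH)
    rwa [← Aut.dR_inv, inv_inv] at this
  have hconj : ∀ u ∈ UH K, dd * g' * u * (dd * g')⁻¹ ∈ UH K := fun u hu => by
    convert hmove u hu using 1
    rw [hg', hx]; group
  have hB : g' ∈ chevE6.borelSubgroup K := by
    refine mem_borel_of_conj E6.ok ckComm_E6 hg'G fun k hk => ?_
    obtain ⟨r, hr, a, ha, e⟩ := simple_form (K := K) hk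
    refine ⟨1, one_ne_zero, a, ha, ?_⟩
    have h1 := Aut.dR_pos E6.ok (cvec (K := K) w)⁻¹ (UH_le_pos (hconj _ (Subgroup.subset_closure ⟨r, hr, rfl⟩)))
    rw [← Aut.dR_inv, inv_inv, ← hdd] at h1
    rw [← e]
    convert h1 using 1
    group
  obtain ⟨v, hv, d, hd, hvd⟩ := E6.ok.mem_borel hB
  obtain ⟨c, rfl⟩ := E6.ok.mem_diagonal_iff.1 hd
  refine eq_one_of_char hK (c := c) fun k hk => ?_
  obtain ⟨r, hr, a, ha, e⟩ := simple_form (K := K) hk
  set s₀ := E6.pk.sim k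
  set lam : K := ((Aut.rchar E6.pk (cvec w) s₀ : Kˣ) : K) * hchar E6.pk c s₀ with hlam
  obtain ⟨hN, hsup⟩ := E6.ok.fundamental_split (F := K) ckComm_E6 hk
  set N := E6.ok.genR (F := K) (Ok.Out E6.pk (· = k))
  obtain ⟨s, hs, a', ha', e'⟩ := coord_one hk (hconj _ (Subgroup.subset_closure ⟨r, hr, rfl⟩))
  -- the torus part
  set T := dd * E6.ok.hHom c with hT
  have hslt : s₀ < E6.pk.nroots := E6.ok.sim_lt hk
  have hTx : T * E6.ok.xG s₀ 1 * T⁻¹ = E6.ok.xG s₀ lam := by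
    rw [hT, show dd * E6.ok.hHom c * E6.ok.xG s₀ 1 * (dd * E6.ok.hHom c)⁻¹ =
      dd * (E6.ok.hHom c * E6.ok.xG s₀ 1 * (E6.ok.hHom c)⁻¹) * dd⁻¹ by group, E6.ok.hHom_xG c hslt, mul_one,
      hdd, Aut.dR_conj_xG E6.ok _ hslt]
  have hTN : ∀ n ∈ N, T * n * T⁻¹ ∈ N := by
    intro n hn
    induction hn using Subgroup.closure_induction with
    | mem y hy =>
      obtain ⟨q, t, hq, rfl⟩ := hy
      have hqlt : q < E6.pk.nroots := (E6.pk.isPos_iff.1 ((E6.ok.out_sim hk).1 hq).1).2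
      rw [hT, show dd * E6.ok.hHom c * E6.ok.xG q t * (dd * E6.ok.hHom c)⁻¹ =
        dd * (E6.ok.hHom c * E6.ok.xG q t * (E6.ok.hHom c)⁻¹) * dd⁻¹ by group, E6.ok.hHom_xG c hqlt,
        hdd, Aut.dR_conj_xG E6.ok _ hqlt]
      exact E6.ok.xG_mem_genR hq _
    | one => simpa using one_mem _
    | mul p q _ _ ihp ihq =>
      rw [show T * (p * q) * T⁻¹ = (T * p * T⁻¹) * (T * q * T⁻¹) by group]
      exact mul_mem ihp ihq
    | inv p _ ih =>
      rw [show T * p⁻¹ * T⁻¹ = (T * p * T⁻¹)⁻¹ by group]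
      exact inv_mem ih
  set v' := dd * v * dd⁻¹ with hv'
  have hv'U : v' ∈ chevE6.posUnipotent K := Aut.dR_pos E6.ok _ hv
  rw [← hsup, sup_comm, ← SetLike.mem_coe,
    Subgroup.coe_mul_of_left_le_normalizer_right _ _ (le_trans le_sup_left hN)] at hv'U
  obtain ⟨y, hy, b, hb, hyb : y * b = v'⟩ := hv'U
  rw [E6.ok.rootSubgroup_eq] at hy
  obtain ⟨m, rfl⟩ := hy
  have hnorm : ∀ t : K, E6.ok.xG s₀ t ∈ Subgroup.normalizer (N : Set (GL chevE6.Idx K)) := fun t =>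
    hN (Subgroup.mem_sup_left (E6.ok.mem_rootSubgroup t))
  have key : E6.ok.xG s₀ (lam - s) ∈ N := by
    have e1 : dd * g' * yK K r * (dd * g')⁻¹ =
        E6.ok.xG s₀ m * (b * (E6.ok.xG s₀ lam * (T * a * T⁻¹)) * b⁻¹) * (E6.ok.xG s₀ m)⁻¹ := by
      rw [← hTx, hvd, e, show dd * (v * E6.ok.hHom c) = v' * T by rw [hv', hT]; group,
        show v' = E6.ok.xG s₀ m * b from hyb.symm]
      group
    rw [e1] at e'
    have hn1 : T * a * T⁻¹ ∈ N := hTN a ha
    -- collect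
    have e2 : E6.ok.xG s₀ m * (b * (E6.ok.xG s₀ lam * (T * a * T⁻¹)) * b⁻¹) * (E6.ok.xG s₀ m)⁻¹ =
        E6.ok.xG s₀ lam * (E6.ok.xG s₀ m * (((E6.ok.xG s₀ lam)⁻¹ * b * E6.ok.xG s₀ lam) * (T * a * T⁻¹) * b⁻¹) *
          (E6.ok.xG s₀ m)⁻¹) := by
      have hc : E6.ok.xG s₀ m * E6.ok.xG s₀ lam = E6.ok.xG s₀ lam * E6.ok.xG s₀ m := by
        rw [E6.ok.xG_add, E6.ok.xG_add, add_comm]
      rw [show E6.ok.xG s₀ lam * (E6.ok.xG s₀ m * (((E6.ok.xG s₀ lam)⁻¹ * b * E6.ok.xG s₀ lam) * (T * a * T⁻¹) * b⁻¹) *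
          (E6.ok.xG s₀ m)⁻¹) = (E6.ok.xG s₀ lam * E6.ok.xG s₀ m) * (E6.ok.xG s₀ lam)⁻¹ *
          (b * (E6.ok.xG s₀ lam * (T * a * T⁻¹)) * b⁻¹) * (E6.ok.xG s₀ m)⁻¹ by group, ← hc]
      group
    rw [e2] at e'
    have hn3 : E6.ok.xG s₀ m * (((E6.ok.xG s₀ lam)⁻¹ * b * E6.ok.xG s₀ lam) * (T * a * T⁻¹) * b⁻¹) *
        (E6.ok.xG s₀ m)⁻¹ ∈ N := by
      refine (Subgroup.mem_normalizer_iff.1 (hnorm m) _).1 (mul_mem (mul_mem ?_ hn1) (inv_mem hb))
      have := (Subgroup.mem_normalizer_iff.1 (inv_mem (hnorm lam)) b).1 hb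
      rwa [inv_inv] at this
    set n3 := E6.ok.xG s₀ m * (((E6.ok.xG s₀ lam)⁻¹ * b * E6.ok.xG s₀ lam) * (T * a * T⁻¹) * b⁻¹) *
        (E6.ok.xG s₀ m)⁻¹
    have e3 : E6.ok.xG s₀ (lam - s) = a' * n3⁻¹ := by
      have e4 : E6.ok.xG s₀ lam * n3 = E6.ok.xG s₀ s * a' := e'
      rw [sub_eq_neg_add, ← E6.ok.xG_add, ← E6.ok.xG_inv, eq_mul_inv_iff_mul_eq, mul_assoc, e4,
        inv_mul_cancel_left]
    rw [e3]
    exact mul_mem ha' (inv_mem hn3)
  have hls : lam = s := sub_eq_zero.1 (E6.ok.sim_not_out ckComm_E6 hk key)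
  rcases hs with rfl | rfl
  · exact absurd hls (mul_ne_zero (Units.ne_zero _) (Finset.prod_ne_zero_iff.2 fun i _ => zpow_ne_zero _ (Units.ne_zero _)))
  · exact hls

/-- The twisted copies. -/
noncomputable def Hw (w : Kˣ) : Subgroup (GL chevE6.Idx K) :=
  (H K).map (MulAut.conj (Aut.dR E6.ok (cvec w))).toMonoidHom

theorem Hw_le (hK : Fintype.card K = 4) (w : Kˣ) : Hw w ≤ twistedE6 K 2 := by
  classical
  have hq : IsPrimePow 2 := Nat.prime_two.isPrimePow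
  have hK' : Fintype.card K = 2 ^ 2 := by rw [hK]; norm_num
  obtain ⟨φ, G, hφ, hG, -⟩ := TwE6.setup hq hK'
  rw [Hw, H, MonoidHom.map_closure, ← hG, G.eq_fixed ckComm_E6]
  refine (Subgroup.closure_le _).2 ?_
  rintro _ ⟨_, ⟨r, hr, rfl⟩, rfl⟩
  have hl := List.all_eq_true.1 img_lev r (F4.pk.mem_allRoots.2 hr)
  have heps : ∀ a : ℕ, (gE6.eps a : K) = 1 := Fold.eps_one
  have hw : ∀ n : ℤ, φ (((w ^ n : Kˣ) : K)) = ((w ^ (-n) : Kˣ) : K) := fun n => by
    rw [hφ, ← Units.val_pow_eq_pow_val]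
    congr 1
    have : (w ^ n) ^ Fintype.card Kˣ = 1 := pow_card_eq_one
    rw [Fintype.card_units, hK, pow_succ'] at this
    rw [zpow_neg]
    exact eq_inv_of_mul_eq_one_right this
  have hσ : ∀ a < E6.pk.nroots, ∀ t : K, (TwE6.T φ).σ (E6.ok.xG a t) = E6.ok.xG (gE6.rr a) (φ t) := fun a ha t => by
    rw [(TwE6.T φ).σ_xG a ha t]
    show E6.ok.xG (gE6.rr a) ((gE6.eps a : K) * φ t) = _
    rw [heps, one_mul]
  rcases Fold.img_cases hr with ⟨a, e, ha, he⟩ | ⟨a, b, e, he, he', ho⟩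
  · rw [e] at hl
    simp only [decide_eq_true_eq] at hl
    show MulAut.conj _ (yK K r) ∈ (TwE6.T φ).fixed
    rw [yK, Fold.yF, e, List.map_cons, List.map_nil, List.prod_cons, List.prod_nil, mul_one, MulAut.conj_apply,
      Aut.dR_conj_xG E6.ok _ ha, rchar_cvec, hl, sub_self, zpow_zero, Units.val_one, mul_one]
    exact (TwE6.T φ).mem_fixed.2 ⟨E6.ok.mem_group_of_xG _ _, by rw [hσ a ha, he, map_one]⟩
  · rw [e] at hl
    simp only [decide_eq_true_eq] at hl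
    have hab := ho
    simp only [ckOrth, Bool.and_eq_true, Nat.blt_eq] at hab
    have ha := hab.1.1.1.1.1
    have hb := hab.1.1.1.1.2
    show MulAut.conj _ (yK K r) ∈ (TwE6.T φ).fixed
    rw [yK, Fold.yF, e, List.map_cons, List.map_cons, List.map_nil, List.prod_cons, List.prod_cons, List.prod_nil,
      mul_one, map_mul, MulAut.conj_apply, MulAut.conj_apply,
      Aut.dR_conj_xG E6.ok _ ha, Aut.dR_conj_xG E6.ok _ hb, rchar_cvec, rchar_cvec, mul_one, mul_one]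
    refine (TwE6.T φ).mem_fixed.2 ⟨mul_mem (E6.ok.mem_group_of_xG _ _) (E6.ok.mem_group_of_xG _ _), ?_⟩
    rw [(TwE6.T φ).map_mul' _ (E6.ok.mem_group_of_xG _ _) _ (E6.ok.mem_group_of_xG _ _), hσ a ha, hσ b hb,
      he, he', hw, hw, neg_sub, neg_sub, hl.1, hl.2]
    exact ((E6.ok.commute_xG ckComm_E6 ho _ _).eq).symm

theorem classes (hK : Fintype.card K = 4) :
    ∃ H' : Fin 3 → Subgroup ↥(twistedE6 K 2), (∀ i, Nonempty ((H' i) ≃* chevF4.group (ZMod 2))) ∧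
      ∀ i j, i ≠ j → ∀ g : ↥(twistedE6 K 2), (H' i).map (MulAut.conj g).toMonoidHom ≠ H' j := by
  classical
  obtain ⟨χ, hinj, hrange, -⟩ := exists_emb (K := K)
  let enum : Fin 3 ≃ Kˣ := (Fintype.equivFinOfCardEq (by rw [Fintype.card_units, hK])).symm
  refine ⟨fun i => (Hw (enum i)).subgroupOf (twistedE6 K 2), fun i => ?_, fun i j hij g heq => ?_⟩
  · exact ⟨(Subgroup.subgroupOfEquivOfLe (Hw_le hK _)).trans
      ((((H K).equivMapOfInjective _ (MulAut.conj _).injective).symm).trans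
        ((MulEquiv.subgroupCongr hrange.symm).trans (MonoidHom.ofInjective hinj).symm))⟩
  · have hgE : (g : GL chevE6.Idx K) ∈ chevE6.group K := by
      have hq : IsPrimePow 2 := Nat.prime_two.isPrimePow
      obtain ⟨φ, G, hφ, hG, -⟩ := TwE6.setup (K := K) hq (by rw [hK]; norm_num)
      exact G.le_group (show (g : GL chevE6.Idx K) ∈ G.G1 by rw [hG]; exact g.2)
    set a := enum i
    set b := enum j
    have heq' : (Hw a).map (MulAut.conj (g : GL chevE6.Idx K)).toMonoidHom = Hw b := by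
      have h1 := congrArg (Subgroup.map (twistedE6 K 2).subtype) heq
      rw [Subgroup.map_map, show (twistedE6 K 2).subtype.comp (MulAut.conj g).toMonoidHom =
        (MulAut.conj (g : GL chevE6.Idx K)).toMonoidHom.comp (twistedE6 K 2).subtype from MonoidHom.ext fun _ => rfl,
        ← Subgroup.map_map, Subgroup.map_subgroupOf_eq_of_le (Hw_le hK a),
        Subgroup.map_subgroupOf_eq_of_le (Hw_le hK b)] at h1
      exact h1
    set da := Aut.dR E6.ok (cvec (K := K) a) with hda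
    set db := Aut.dR E6.ok (cvec (K := K) b) with hdb
    have hab : cvec (b⁻¹ * a) = (cvec b)⁻¹ * cvec a := by
      funext k; simp only [cvec, Pi.mul_apply, Pi.inv_apply]; split_ifs <;> simp [mul_comm]
    have hg' : da⁻¹ * g * da ∈ chevE6.group K := by
      have := Aut.dR_group E6.ok (cvec (K := K) a)⁻¹ hgE
      rwa [← Aut.dR_inv, inv_inv] at this
    refine hij (enum.injective (inv_mul_eq_one.1 (twist_trivial (K := K) (w := b⁻¹ * a) hK hg' ?_)).symm)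
    rw [hab, ← Aut.dR_mul, ← Aut.dR_inv, ← hda, ← hdb,
      show db⁻¹ * da * (da⁻¹ * (g : GL chevE6.Idx K) * da) = db⁻¹ * ((g : GL chevE6.Idx K) * da) by group]
    rw [map_mul, map_mul]
    show Subgroup.map (((MulAut.conj db⁻¹).toMonoidHom).comp ((MulAut.conj (g : GL chevE6.Idx K)).toMonoidHom.comp
      (MulAut.conj da).toMonoidHom)) (H K) = H K
    rw [← Subgroup.map_map, ← Subgroup.map_map]
    show Subgroup.map _ (Subgroup.map _ (Hw a)) = _
    rw [heq', Hw, Subgroup.map_map]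
    conv_rhs => rw [← Subgroup.map_id (H K)]
    congr 1
    refine MonoidHom.ext fun y => ?_
    show db⁻¹ * (db * y * db⁻¹) * db⁻¹⁻¹ = y
    group

end Concrete

end Cfsg.Agent.Chev.FoldTwist
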